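import Mathlib.Algebra.Module.FinitePresentation
import Mathlib.RingTheory.TensorProduct.IsBaseChangePi
import Mathlib.RingTheory.Flat.Basic
import Mathlib.RingTheory.Localization.Away.Basic
import Mathlib.RingTheory.Ideal.Operations
import Mathlib.LinearAlgebra.TensorProduct.RightExactness
import Mathlib.LinearAlgebra.TensorProduct.Pi

/-!
# Presentations of bounded size: descent along Zariski covers and products
-/

set_option autoImplicit false
universe u v

open TensorProduct

noncomputable section

namespace Groth.Agent.PiFP27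

/-- `M` has a presentation with `n` generators and `k` relations. -/
def HasPres (R : Type u) [CommRing R] (n k : ℕ) (M : Type v) [AddCommGroup M] [Module R M] : Prop :=
  ∃ (t : Fin n → M) (g : Fin k → Fin n → R), Submodule.span R (Set.range t) = ⊤ ∧
    LinearMap.ker (Fintype.linearCombination R t) = Submodule.span R (Set.range g)

variable {R : Type u} [CommRing R]

theorem HasPres.surjective {n : ℕ} {M : Type v} [AddCommGroup M] [Module R M] {t : Fin n → M}
    (h : Submodule.span R (Set.range t) = ⊤) : Function.Surjective (Fintype.linearCombination R t) := by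
  rw [← LinearMap.range_eq_top, Fintype.range_linearCombination, h]

theorem hasPres_of_surjective {n k : ℕ} {M : Type v} [AddCommGroup M] [Module R M]
    (f : (Fin n → R) →ₗ[R] M) (hf : Function.Surjective f) (g : Fin k → Fin n → R)
    (hg : LinearMap.ker f = Submodule.span R (Set.range g)) : HasPres R n k M := by
  classical
  have hfe : Fintype.linearCombination R (fun i => f (Pi.single i 1)) = f := by
    refine LinearMap.pi_ext fun i x => ?_
    rw [Fintype.linearCombination_apply_single, ← map_smul, ← Pi.single_smul, smul_eq_mul, mul_one]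
  refine ⟨fun i => f (Pi.single i 1), g, ?_, by rw [hfe, hg]⟩
  rw [← Fintype.range_linearCombination, hfe, LinearMap.range_eq_top.2 hf]

theorem HasPres.of_equiv {n k : ℕ} {M N : Type v} [AddCommGroup M] [Module R M] [AddCommGroup N] [Module R N]
    (h : HasPres R n k M) (e : M ≃ₗ[R] N) : HasPres R n k N := by
  obtain ⟨t, g, ht, hg⟩ := h
  refine hasPres_of_surjective (e.toLinearMap ∘ₗ Fintype.linearCombination R t)
    (e.surjective.comp (HasPres.surjective ht)) g ?_
  rw [LinearMap.ker_comp, LinearEquiv.ker, Submodule.comap_bot, hg]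

theorem exists_hasPres {M : Type v} [AddCommGroup M] [Module R M] [Module.FinitePresentation R M] :
    ∃ n k, HasPres R n k M := by
  obtain ⟨n, f, hf⟩ := Module.Finite.exists_fin' R M
  obtain ⟨k, g, hg⟩ := Submodule.fg_iff_exists_fin_generating_family.1 (Module.FinitePresentation.fg_ker f hf)
  exact ⟨n, k, hasPres_of_surjective f hf g hg.symm⟩

theorem HasPres.baseChange {n k : ℕ} {M : Type v} [AddCommGroup M] [Module R M] (h : HasPres R n k M)
    (B : Type u) [CommRing B] [Algebra R B] : HasPres B n k (B ⊗[R] M) := by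
  classical
  obtain ⟨t, g, ht, hg⟩ := h
  let f := Fintype.linearCombination R t
  let e : B ⊗[R] (Fin n → R) ≃ₗ[B] (Fin n → B) := TensorProduct.piScalarRight R B B (Fin n)
  have hex : Function.Exact (Fintype.linearCombination R g) f := by
    rw [LinearMap.exact_iff, Fintype.range_linearCombination]
    exact hg
  have hex' : Function.Exact ((Fintype.linearCombination R g).baseChange B) (f.baseChange B) := by
    simpa only [LinearMap.coe_restrictScalars, LinearMap.baseChange_eq_ltensor] using
      lTensor_exact B hex (HasPres.surjective ht)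
  have hsurj : Function.Surjective (f.baseChange B) := by
    rw [LinearMap.baseChange_eq_ltensor]
    exact LinearMap.lTensor_surjective B (HasPres.surjective ht)
  refine hasPres_of_surjective ((f.baseChange B) ∘ₗ e.symm.toLinearMap) (hsurj.comp e.symm.surjective)
    (fun i => e (1 ⊗ₜ g i)) ?_
  rw [LinearMap.ker_comp, (LinearMap.exact_iff.1 hex')]
  rw [show Set.range (fun i => e (1 ⊗ₜ g i)) = e.toLinearMap '' Set.range (fun i => (1 : B) ⊗ₜ[R] g i) from Set.range_comp e _,
    ← Submodule.map_span]
  rw [Submodule.map_equiv_eq_comap_symm]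
  congr 1
  refine le_antisymm ?_ (Submodule.span_le.2 ?_)
  · rintro _ ⟨z, rfl⟩
    induction z using TensorProduct.induction_on with
    | zero => rw [map_zero]; exact zero_mem _
    | tmul b c =>
      rw [LinearMap.baseChange_tmul, Fintype.linearCombination_apply, tmul_sum]
      refine sum_mem fun i _ => ?_
      rw [tmul_smul, ← mul_one b, ← smul_eq_mul, ← smul_tmul', ← IsScalarTower.algebraMap_smul B (c i)]
      exact Submodule.smul_mem _ _ (Submodule.smul_mem _ _ (Submodule.subset_span ⟨i, rfl⟩))
    | add x y hx hy => rw [map_add]; exact add_mem hx hy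
  · rintro _ ⟨i, rfl⟩
    exact ⟨1 ⊗ₜ Pi.single i 1, by rw [LinearMap.baseChange_tmul, Fintype.linearCombination_apply_single, one_smul]⟩

/-- Relations among a second generating family. -/
theorem exists_ker_generators {B : Type u} [CommRing B] {n k N : ℕ} {M : Type v} [AddCommGroup M] [Module B M]
    (h : HasPres B n k M) (φ : (Fin N → B) →ₗ[B] M) (hφ : Function.Surjective φ) :
    ∃ g : Fin (k + N) → Fin N → B, LinearMap.ker φ = Submodule.span B (Set.range g) := by
  classical
  obtain ⟨t, r, ht, hr⟩ := h
  let f := Fintype.linearCombination B t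
  choose a ha using fun i => HasPres.surjective ht (φ (Pi.single i 1))
  choose b hb using fun i => hφ (t i)
  let χ := Fintype.linearCombination B a
  let ψ := Fintype.linearCombination B b
  have hχ : ∀ x, f (χ x) = φ x := fun x => by
    have : f ∘ₗ χ = φ := LinearMap.pi_ext fun i y => by
      rw [LinearMap.comp_apply, Fintype.linearCombination_apply_single, map_smul, ha, ← map_smul, ← Pi.single_smul,
        smul_eq_mul, mul_one]
    exact LinearMap.congr_fun this x
  have hψ : ∀ x, φ (ψ x) = f x := fun x => by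
    have : φ ∘ₗ ψ = f := LinearMap.pi_ext fun i y => by
      rw [LinearMap.comp_apply, Fintype.linearCombination_apply_single, map_smul, hb]
      exact (Fintype.linearCombination_apply_single B t i y).symm
    exact LinearMap.congr_fun this x
  refine ⟨Fin.append (fun i => ψ (r i)) (fun l => Pi.single l 1 - ψ (χ (Pi.single l 1))), le_antisymm ?_ ?_⟩
  · intro x hx
    let S := Submodule.span B (Set.range (Fin.append (fun i => ψ (r i)) (fun l => Pi.single l 1 - ψ (χ (Pi.single l 1)))))
    have h1 : ∀ y, y - ψ (χ y) ∈ S := fun y => by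
      have : LinearMap.range (LinearMap.id - ψ ∘ₗ χ) ≤ S := by
        rw [LinearMap.range_eq_map, ← (Pi.basisFun B (Fin N)).span_eq, Submodule.map_span]
        refine Submodule.span_le.2 ?_
        rintro _ ⟨_, ⟨l, rfl⟩, rfl⟩
        exact Submodule.subset_span ⟨Fin.natAdd k l, by simp⟩
      exact this ⟨y, rfl⟩
    have h2 : ψ (χ x) ∈ S := by
      have hmem : χ x ∈ Submodule.span B (Set.range r) := hr.le (LinearMap.mem_ker.2 ((hχ x).trans (LinearMap.mem_ker.1 hx)))
      have h3 := Submodule.mem_map_of_mem (f := ψ) hmem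
      rw [Submodule.map_span, ← Set.range_comp] at h3
      exact Submodule.span_mono (by rintro _ ⟨i, rfl⟩; exact ⟨Fin.castAdd N i, by simp⟩) h3
    have := add_mem (h1 x) h2
    rwa [sub_add_cancel] at this
  · refine Submodule.span_le.2 ?_
    rintro _ ⟨i, rfl⟩
    refine LinearMap.mem_ker.2 ?_
    refine Fin.addCases (fun i => ?_) (fun l => ?_) i
    · rw [Fin.append_left, hψ]
      exact LinearMap.mem_ker.1 (hr.ge (Submodule.subset_span ⟨i, rfl⟩))
    · rw [Fin.append_right, map_sub, hψ, hχ, sub_self]

section descent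

variable {A : Type u} [CommRing A] {M : Type v} [AddCommGroup M] [Module A M]

theorem span_top_of_localized {r : ℕ} (a : Fin r → A) (ha : Ideal.span (Set.range a) = ⊤) {n k : Fin r → ℕ}
    (h : ∀ j, HasPres (Localization.Away (a j)) (n j) (k j) (LocalizedModule (Submonoid.powers (a j)) M)) :
    ∃ t : Fin (∑ j, n j) → M, Submodule.span A (Set.range t) = ⊤ := by
  classical
  choose t g ht hg using h
  have hnum : ∀ j i, ∃ m : M, ∃ e : ℕ, (a j ^ e) • t j i = LocalizedModule.mkLinearMap _ M m := fun j i => by
    obtain ⟨⟨m, ⟨_, e, rfl⟩⟩, he⟩ := IsLocalizedModule.surj (Submonoid.powers (a j)) (LocalizedModule.mkLinearMap _ M) (t j i)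
    exact ⟨m, e, he⟩
  choose m e he using hnum
  let σ : (Σ j, Fin (n j)) ≃ Fin (∑ j, n j) := finSigmaFinEquiv
  refine ⟨fun i => m (σ.symm i).1 (σ.symm i).2, ?_⟩
  set P := Submodule.span A (Set.range fun i => m (σ.symm i).1 (σ.symm i).2) with hP
  have hmem : ∀ j i, m j i ∈ P := fun j i => Submodule.subset_span ⟨σ ⟨j, i⟩, congrArg (fun p : Σ j, Fin (n j) => m p.1 p.2) (σ.symm_apply_apply ⟨j, i⟩)⟩
  rw [eq_top_iff]
  intro x _
  refine Submodule.mem_of_span_eq_top_of_smul_pow_mem P _ ha x ?_
  rintro ⟨_, j, rfl⟩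
  let L := Localization.Away (a j)
  let q := LocalizedModule.mkLinearMap (Submonoid.powers (a j)) M
  have hunit : ∀ c : ℕ, IsUnit (algebraMap A L (a j ^ c)) := fun c =>
    IsLocalization.map_units L (⟨a j ^ c, c, rfl⟩ : Submonoid.powers (a j))
  have key : ∀ y : LocalizedModule (Submonoid.powers (a j)) M, ∃ (c : ℕ) (p : M), p ∈ P ∧ (a j ^ c) • y = q p := by
    intro y
    have hy : y ∈ Submodule.span L (Set.range (t j)) := (ht j).ge trivial
    induction hy using Submodule.span_induction with
    | mem z hz => obtain ⟨i, rfl⟩ := hz; exact ⟨e j i, m j i, hmem j i, he j i⟩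
    | zero => exact ⟨0, 0, zero_mem _, by simp⟩
    | add y z _ _ hy hz =>
      obtain ⟨c, p, hp, hc⟩ := hy
      obtain ⟨c', p', hp', hc'⟩ := hz
      refine ⟨c + c', a j ^ c' • p + a j ^ c • p', add_mem (P.smul_mem _ hp) (P.smul_mem _ hp'), ?_⟩
      rw [smul_add, map_add, map_smul, map_smul, ← hc, ← hc', smul_smul, smul_smul, ← pow_add, ← pow_add, add_comm c' c]
    | smul l y _ hy =>
      obtain ⟨c, p, hp, hc⟩ := hy
      obtain ⟨⟨b, ⟨_, d, rfl⟩⟩, hd⟩ := IsLocalization.surj (Submonoid.powers (a j)) l
      refine ⟨d + c, b • p, P.smul_mem _ hp, ?_⟩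
      rw [map_smul, ← hc, pow_add, mul_smul, smul_comm (a j ^ c) l y, ← smul_assoc]
      exact (congrArg (fun w : L => w • a j ^ c • y) ((Algebra.smul_def (a j ^ d) l).trans ((mul_comm _ _).trans hd))).trans (IsScalarTower.algebraMap_smul L b _)
  obtain ⟨c, p, hp, hc⟩ := key (q x)
  rw [← map_smul] at hc
  obtain ⟨⟨_, d, rfl⟩, hd⟩ := (IsLocalizedModule.eq_iff_exists (Submonoid.powers (a j)) q).1 hc
  refine ⟨d + c, ?_⟩
  rw [Submonoid.smul_def, Submonoid.smul_def, smul_smul, ← pow_add] at hd
  show a j ^ (d + c) • x ∈ P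
  rw [hd]
  exact P.smul_mem _ hp

theorem hasPres_of_localized {r : ℕ} (a : Fin r → A) (ha : Ideal.span (Set.range a) = ⊤) {n k : Fin r → ℕ}
    (h : ∀ j, HasPres (Localization.Away (a j)) (n j) (k j) (LocalizedModule (Submonoid.powers (a j)) M)) :
    HasPres A (∑ j, n j) (∑ j, (k j + ∑ j, n j)) M := by
  classical
  obtain ⟨t, ht⟩ := span_top_of_localized a ha h
  let N := ∑ j, n j
  let φ := Fintype.linearCombination A t
  have hφ : Function.Surjective φ := HasPres.surjective ht
  let L := fun j => Localization.Away (a j)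
  let q := fun j => LocalizedModule.mkLinearMap (Submonoid.powers (a j)) M
  let φ' := fun j => Fintype.linearCombination (L j) (fun i => q j (t i))
  let ι := fun j => (LinearMap.pi fun i => Algebra.linearMap A (L j) ∘ₗ LinearMap.proj i : (Fin N → A) →ₗ[A] Fin N → L j)
  have hcomm : ∀ j z, φ' j (ι j z) = q j (φ z) := fun j z => by
    rw [Fintype.linearCombination_apply, Fintype.linearCombination_apply, map_sum]
    exact Finset.sum_congr rfl fun i _ =>
      (IsScalarTower.algebraMap_smul (L j) (z i) (q j (t i))).trans (map_smul (q j) (z i) (t i)).symm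
  haveI : ∀ j, IsLocalizedModule (Submonoid.powers (a j)) (ι j) := fun j => inferInstance
  have hφ' : ∀ j, Function.Surjective (φ' j) := fun j => by
    intro y
    obtain ⟨⟨m, s⟩, hs⟩ := IsLocalizedModule.surj (Submonoid.powers (a j)) (q j) y
    obtain ⟨z, rfl⟩ := hφ m
    obtain ⟨u, hu⟩ := IsLocalization.map_units (L j) s
    refine ⟨(↑u⁻¹ : L j) • ι j z, ?_⟩
    rw [map_smul, hcomm, ← hs, Submonoid.smul_def, ← IsScalarTower.algebraMap_smul (L j) (s : A), smul_smul, ← hu,
      Units.inv_mul, one_smul]
  choose g hg using fun j => exists_ker_generators (h j) (φ' j) (hφ' j)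
  -- clear denominators
  have hclear : ∀ j i, ∃ z : Fin N → A, φ z = 0 ∧ ∃ e : ℕ, ι j z = (a j ^ e) • g j i := fun j i => by
    obtain ⟨⟨z, ⟨_, e, rfl⟩⟩, he⟩ := IsLocalizedModule.surj (Submonoid.powers (a j)) (ι j) (g j i)
    have hz : q j (φ z) = q j 0 := by
      rw [map_zero, ← hcomm, ← he, Submonoid.smul_def]
      refine (LinearMap.map_smul_of_tower (φ' j) _ _).trans ?_
      rw [LinearMap.mem_ker.1 ((hg j).ge (Submodule.subset_span ⟨i, rfl⟩)), smul_zero]
    obtain ⟨⟨_, d, rfl⟩, hd⟩ := (IsLocalizedModule.eq_iff_exists (Submonoid.powers (a j)) (q j)).1 hz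
    rw [Submonoid.smul_def, Submonoid.smul_def, smul_zero] at hd
    refine ⟨a j ^ d • z, (map_smul φ _ _).trans hd, d + e, ?_⟩
    rw [map_smul, ← he, Submonoid.smul_def, smul_smul, pow_add]
  choose z hz e he using hclear
  let σ : (Σ j, Fin (k j + N)) ≃ Fin (∑ j, (k j + N)) := finSigmaFinEquiv
  let G : Fin (∑ j, (k j + N)) → Fin N → A := fun i => z (σ.symm i).1 (σ.symm i).2
  let P := Submodule.span A (Set.range G)
  have hmem : ∀ j i, z j i ∈ P := fun j i => Submodule.subset_span ⟨σ ⟨j, i⟩, congrArg (fun p : Σ j, Fin (k j + N) => z p.1 p.2) (σ.symm_apply_apply ⟨j, i⟩)⟩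
  refine hasPres_of_surjective φ hφ G (le_antisymm ?_ (Submodule.span_le.2 ?_))
  · intro x hx
    refine Submodule.mem_of_span_eq_top_of_smul_pow_mem P _ ha x ?_
    rintro ⟨_, j, rfl⟩
    have hker : ι j x ∈ LinearMap.ker (φ' j) := LinearMap.mem_ker.2 (by rw [hcomm, LinearMap.mem_ker.1 hx, map_zero])
    rw [hg j] at hker
    have key : ∀ y ∈ Submodule.span (L j) (Set.range (g j)), ∃ (c : ℕ) (p : Fin N → A), p ∈ P ∧ (a j ^ c) • y = ι j p := by
      intro y hy
      induction hy using Submodule.span_induction with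
      | mem w hw => obtain ⟨i, rfl⟩ := hw; exact ⟨e j i, z j i, hmem j i, (he j i).symm⟩
      | zero => exact ⟨0, 0, zero_mem _, by simp⟩
      | add y w _ _ hy hw =>
        obtain ⟨c, p, hp, hc⟩ := hy
        obtain ⟨c', p', hp', hc'⟩ := hw
        refine ⟨c + c', a j ^ c' • p + a j ^ c • p', add_mem (P.smul_mem _ hp) (P.smul_mem _ hp'), ?_⟩
        rw [smul_add, map_add, map_smul, map_smul, ← hc, ← hc', smul_smul, smul_smul, ← pow_add, ← pow_add, add_comm c' c]
      | smul l y _ hy =>
        obtain ⟨c, p, hp, hc⟩ := hy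
        obtain ⟨⟨b, ⟨_, d, rfl⟩⟩, hd⟩ := IsLocalization.surj (Submonoid.powers (a j)) l
        refine ⟨d + c, b • p, P.smul_mem _ hp, ?_⟩
        rw [map_smul, ← hc, pow_add, mul_smul, smul_comm (a j ^ c) l y, ← smul_assoc]
        exact (congrArg (fun w : L j => w • a j ^ c • y) ((Algebra.smul_def (a j ^ d) l).trans ((mul_comm _ _).trans hd))).trans (IsScalarTower.algebraMap_smul (L j) b _)
    obtain ⟨c, p, hp, hc⟩ := key _ hker
    rw [← map_smul] at hc
    obtain ⟨⟨_, d, rfl⟩, hd⟩ := (IsLocalizedModule.eq_iff_exists (Submonoid.powers (a j)) (ι j)).1 hc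
    rw [Submonoid.smul_def, Submonoid.smul_def, smul_smul, ← pow_add] at hd
    refine ⟨d + c, ?_⟩
    show a j ^ (d + c) • x ∈ P
    rw [hd]
    exact P.smul_mem _ hp
  · rintro _ ⟨i, rfl⟩
    exact LinearMap.mem_ker.2 (hz _ _)

end descent

theorem HasPres.of_surjective_algebraMap {A B : Type u} [CommRing A] [CommRing B] [Algebra A B]
    (hs : Function.Surjective (algebraMap A B)) {n k : ℕ} {M : Type v} [AddCommGroup M] [Module A M] [Module B M]
    [IsScalarTower A B M] (h : HasPres A n k M) : HasPres B n k M := by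
  obtain ⟨t, g, ht, hg⟩ := h
  refine ⟨t, fun i l => algebraMap A B (g i l), ?_, ?_⟩
  · refine eq_top_iff.2 fun x _ => ?_
    have hx : x ∈ Submodule.span A (Set.range t) := ht.ge trivial
    exact Submodule.span_le_restrictScalars A B _ hx
  · refine le_antisymm (fun x hx => ?_) (Submodule.span_le.2 ?_)
    · choose y hy using fun l => hs (x l)
      have hy' : y ∈ LinearMap.ker (Fintype.linearCombination A t) := LinearMap.mem_ker.2 (by
        rw [← LinearMap.mem_ker.1 hx, Fintype.linearCombination_apply, Fintype.linearCombination_apply]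
        exact Finset.sum_congr rfl fun l _ => by rw [← hy l, IsScalarTower.algebraMap_smul])
      rw [hg] at hy'
      obtain ⟨c, hc⟩ := (Submodule.mem_span_range_iff_exists_fun A).1 hy'
      refine (Submodule.mem_span_range_iff_exists_fun B).2 ⟨fun i => algebraMap A B (c i), funext fun l => ?_⟩
      rw [← hy l, ← hc]
      simp [Finset.sum_apply, map_sum, Algebra.smul_def]
    · rintro _ ⟨i, rfl⟩
      have h0 := LinearMap.mem_ker.1 (hg.ge (Submodule.subset_span ⟨i, rfl⟩))
      refine LinearMap.mem_ker.2 (Eq.trans ?_ h0)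
      rw [Fintype.linearCombination_apply, Fintype.linearCombination_apply]
      exact Finset.sum_congr rfl fun l _ => IsScalarTower.algebraMap_smul B (g i l) (t l)

theorem finitePresentation_pi {ι : Type*} {B : ι → Type u} [∀ i, CommRing (B i)] {M : ι → Type v}
    [∀ i, AddCommGroup (M i)] [∀ i, Module (B i) (M i)] {n k : ℕ} (h : ∀ i, HasPres (B i) n k (M i)) :
    Module.FinitePresentation (∀ i, B i) (∀ i, M i) := by
  choose t g ht hg using h
  let T : Fin n → (∀ i, M i) := fun l i => t i l
  let f := Fintype.linearCombination (∀ i, B i) T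
  have hf : ∀ x i, f x i = Fintype.linearCombination (B i) (t i) (fun l => x l i) := fun x i => by
    rw [Fintype.linearCombination_apply, Fintype.linearCombination_apply, Finset.sum_apply]
    rfl
  refine Module.finitePresentation_of_surjective f (fun y => ?_) ?_
  · choose x hx using fun i => HasPres.surjective (ht i) (y i)
    exact ⟨fun l i => x i l, funext fun i => (hf _ i).trans (hx i)⟩
  · rw [Submodule.fg_iff_exists_fin_generating_family]
    refine ⟨k, fun s l i => g i s l, le_antisymm (Submodule.span_le.2 ?_) fun x hx => ?_⟩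
    · rintro _ ⟨s, rfl⟩
      exact LinearMap.mem_ker.2 (funext fun i => (hf _ i).trans (LinearMap.mem_ker.1 ((hg i).ge (Submodule.subset_span ⟨s, rfl⟩))))
    · have : ∀ i, ∃ c : Fin k → B i, ∑ s, c s • g i s = fun l => x l i := fun i => by
        refine (Submodule.mem_span_range_iff_exists_fun (B i)).1 ((hg i).le (LinearMap.mem_ker.2 ?_))
        rw [← hf, LinearMap.mem_ker.1 hx]
        rfl
      choose c hc using this
      refine (Submodule.mem_span_range_iff_exists_fun _).2 ⟨fun s i => c i s, funext fun l => funext fun i => ?_⟩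
      rw [← show _ = x l i from congrFun (hc i) l]
      simp [Finset.sum_apply]

end Groth.Agent.PiFP27
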