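import Groth.Agent.Lib.PiFP27.Pres
import Groth.Agent.Lib.Nis27.UniformAffine
import Groth.Agent.Lib.PunctFree27.Scheme
import Groth.Agent.Lib.ModM1.Pull
import Groth.Agent.Lib.ModM1.Fpqc

/-!
# Uniform presentations of pullbacks to affine schemes
-/

set_option autoImplicit false
universe u

open CategoryTheory CategoryTheory.Limits AlgebraicGeometry Opposite TensorProduct

noncomputable section

namespace Groth.Agent.PiFP27

set_option backward.isDefEq.respectTransparency false in
theorem hasPres_extend {R S : CommRingCat.{u}} (χ : R ⟶ S) {n k : ℕ} {P : ModuleCat.{u} R} (h : HasPres R n k P) :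
    HasPres S n k ((ModuleCat.extendScalars χ.hom).obj P) := by
  letI := χ.hom.toAlgebra
  let g : ((ModuleCat.restrictScalars χ.hom).obj (ModuleCat.of S S)) ≃ₗ[R] S :=
    { toFun := fun x => x
      invFun := fun x => x
      left_inv := fun _ => rfl
      right_inv := fun _ => rfl
      map_add' := fun _ _ => rfl
      map_smul' := fun a x => (Algebra.smul_def (A := S) a (show S from x)).symm }
  let q := TensorProduct.congr g (LinearEquiv.refl R P)
  let d : ((ModuleCat.extendScalars χ.hom).obj P) ≃ₗ[S] ((S : Type u) ⊗[R] P) :=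
    { toFun := fun x => q x
      invFun := fun x => q.symm x
      left_inv := fun x => q.symm_apply_apply x
      right_inv := fun x => q.apply_symm_apply x
      map_add' := fun x y => q.map_add x y
      map_smul' := fun c x => by
        induction (show ((ModuleCat.restrictScalars χ.hom).obj (ModuleCat.of S S)) ⊗[R] P from x)
          using TensorProduct.induction_on with
        | zero => exact (congrArg q (smul_zero (A := (ModuleCat.extendScalars χ.hom).obj P) c)).trans (q.map_zero.trans (smul_zero c).symm)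
        | tmul b m => rfl
        | add x y hx hy => erw [smul_add, q.map_add, hx, hy, q.map_add, smul_add] }
  exact (h.baseChange S).of_equiv d.symm

theorem hasPres_sections {B : CommRingCat.{u}} (G : (Spec B).Modules) {n k : ℕ}
    (h : HasPres B n k (moduleSpecΓFunctor.obj G)) : HasPres Γ(Spec B, ⊤) n k Γ(G, ⊤) := by
  have h' : HasPres B n k Γ(G, ⊤) := h
  refine @HasPres.of_surjective_algebraMap B Γ(Spec B, ⊤) _ _ _ ?_ n k Γ(G, ⊤) _ _ _ inferInstance h'
  intro y
  obtain ⟨x, hx⟩ := (ConcreteCategory.bijective_of_isIso (Scheme.ΓSpecIso B).inv).2 y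
  exact ⟨x, (ConcreteCategory.congr_hom ((Spec B).presheaf.map_id (op ⊤)) _).trans hx⟩

theorem exists_local_model {X : Scheme.{u}} (F : X.Modules) (hF : CohB1.IsFP F) {U : X.Opens} (hU : IsAffineOpen U) :
    ∃ (P : ModuleCat.{u} Γ(X, U)), Module.FinitePresentation Γ(X, U) P ∧
      Nonempty (F.restrict hU.fromSpec ≅ tilde P) := by
  have h := M1.isFP_restrict hF hU.fromSpec
  haveI hi := @Scheme.Modules.isIso_fromTildeΓ_of_isQuasicoherent Γ(X, U) _ (M1.isFP_isQCoh h)
  exact ⟨moduleSpecΓFunctor.obj (F.restrict hU.fromSpec), M1.finitePresentation_sections_spec _ h,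
    ⟨(@asIso _ _ _ _ _ hi).symm⟩⟩

theorem hasPres_localized_pullback {X : Scheme.{u}} (F : X.Modules) {U : X.Opens} (hU : IsAffineOpen U)
    {P : ModuleCat.{u} Γ(X, U)} (eP : F.restrict hU.fromSpec ≅ tilde P) {n k : ℕ} (hP : HasPres Γ(X, U) n k P)
    {B : CommRingCat.{u}} (g : Spec B ⟶ X) {M : ModuleCat.{u} B} (eM : (Scheme.Modules.pullback g).obj F ≅ tilde M)
    (a : B) (ha : PrimeSpectrum.basicOpen a ≤ g ⁻¹ᵁ U) :
    HasPres (Localization.Away a) n k (LocalizedModule (Submonoid.powers a) M) := by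
  let L := CommRingCat.of (Localization (Submonoid.powers (a : B)))
  let ψ : B ⟶ L := CommRingCat.ofHom (algebraMap B (Localization (Submonoid.powers (a : B))))
  have hrange : Set.range (Spec.map ψ ≫ g) ⊆ Set.range hU.fromSpec := by
    rw [IsAffineOpen.range_fromSpec]
    rintro _ ⟨x, rfl⟩
    show (Spec.map ψ ≫ g) x ∈ U
    rw [Scheme.Hom.comp_apply]
    refine ha ?_
    have : Spec.map ψ x ∈ Set.range (PrimeSpectrum.comap (algebraMap B (Localization (Submonoid.powers (a : B))))) := ⟨x, rfl⟩
    rwa [PrimeSpectrum.localization_away_comap_range (S := Localization.Away a) a] at this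
  let l := IsOpenImmersion.lift hU.fromSpec (Spec.map ψ ≫ g) hrange
  obtain ⟨χ, hχ⟩ := Spec.map_surjective l
  have hcomp : Spec.map χ ≫ hU.fromSpec = Spec.map ψ ≫ g := by rw [hχ]; exact IsOpenImmersion.lift_fac _ _ _
  let e1 : tilde ((ModuleCat.extendScalars ψ.hom).obj M) ≅ tilde ((ModuleCat.extendScalars χ.hom).obj P) :=
    (M1.tildePullbackObjIso ψ M).symm ≪≫ (Scheme.Modules.pullback (Spec.map ψ)).mapIso eM.symm ≪≫
      (Scheme.Modules.pullbackComp (Spec.map ψ) g).app F ≪≫ (Scheme.Modules.pullbackCongr hcomp.symm).app F ≪≫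
      ((Scheme.Modules.pullbackComp (Spec.map χ) hU.fromSpec).app F).symm ≪≫
      (Scheme.Modules.pullback (Spec.map χ)).mapIso (((Scheme.Modules.restrictFunctorIsoPullback hU.fromSpec).app F).symm ≪≫ eP) ≪≫
      M1.tildePullbackObjIso χ P
  let e2 : (ModuleCat.extendScalars ψ.hom).obj M ≅ (ModuleCat.extendScalars χ.hom).obj P :=
    (tilde.fullyFaithfulFunctor (R := L)).preimageIso e1
  obtain ⟨eL⟩ := PunctFree27.nonempty_extend_equiv M a
  exact ((hasPres_extend χ hP).of_equiv e2.toLinearEquiv.symm).of_equiv eL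

theorem finitePresentation_pi_sections {X : Scheme.{u}} [CompactSpace X] {ι : Type u} (B : ι → CommRingCat.{u})
    (f : ∀ i, Spec (B i) ⟶ X) (F : X.Modules) (hF : CohB1.IsFP F) :
    Module.FinitePresentation (∀ i, Γ(Spec (B i), ⊤)) (∀ i, Γ((Scheme.Modules.pullback (f i)).obj F, ⊤)) := by
  classical
  choose V hV hxV using fun x : X => exists_isAffineOpen_mem_and_subset (x := x) (U := ⊤) trivial
  obtain ⟨T, hT⟩ := isCompact_univ.elim_finite_subcover (fun x : X => (V x : Set X)) (fun x => (V x).isOpen)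
    (fun x _ => Set.mem_iUnion.2 ⟨x, (hxV x).1⟩)
  let e := T.equivFin
  let U : Fin T.card → X.Opens := fun j => V (e.symm j).1
  have hUa : ∀ j, IsAffineOpen (U j) := fun j => hV _
  choose P hPfp hPiso using fun j => exists_local_model F hF (hUa j)
  have hpres : ∀ j, ∃ n k, HasPres Γ(X, U j) n k (P j) := fun j => by
    haveI := hPfp j
    exact exists_hasPres
  choose n k hnk using hpres
  refine finitePresentation_pi (n := ∑ j, n j) (k := ∑ j, (k j + ∑ j, n j)) fun i => hasPres_sections _ ?_
  obtain ⟨a, ha, hatop⟩ := Nis27.exists_basicOpen_refinement (fun j => (f i) ⁻¹ᵁ (U j))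
    (eq_top_iff.2 fun x _ => by
      obtain ⟨y, hy, hx⟩ := Set.mem_iUnion₂.1 (hT (Set.mem_univ (f i x)))
      exact TopologicalSpace.Opens.mem_iSup.2 ⟨e ⟨y, hy⟩, show f i x ∈ U (e ⟨y, hy⟩) by simp only [U, Equiv.symm_apply_apply]; exact hx⟩)
  haveI hi := @Scheme.Modules.isIso_fromTildeΓ_of_isQuasicoherent (B i) _
    (M1.isQCoh_pullback (f i) (M1.isFP_isQCoh hF))
  refine hasPres_of_localized a ((PrimeSpectrum.iSup_basicOpen_eq_top_iff).1 hatop) fun j => ?_
  exact hasPres_localized_pullback F (hUa j) (hPiso j).some (hnk j) (f i) (@asIso _ _ _ _ _ hi).symm (a j) (ha j)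

end Groth.Agent.PiFP27
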